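import Groth.Agent.S4305
import Groth.Agent.S4306
import Groth.Agent.HilbFib.Basic
import Groth.Agent.ChowX.QuasiProj
import Groth.Agent.AmpleX.BaseChange
import Groth.Agent.AmpleX.RelAffine
import Groth.Agent.AmpleX.Comp
import Groth.Agent.S2122
import Groth.Agent.SeesawGen.Rep
import Groth.Agent.H23.Seesaw

/-!
# The τ-trivial locus through Euler characteristics
-/

set_option autoImplicit false
set_option linter.style.haveILetI false
set_option backward.isDefEq.respectTransparency false
set_option backward.isDefEq.respectTransparency.types false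
set_option maxHeartbeats 800000

universe u

open CategoryTheory CategoryTheory.Limits AlgebraicGeometry TopologicalSpace
open Groth.Agent.H23.PicMul
open scoped Groth.Agent.H23.PicMul

noncomputable section

namespace Groth.Agent.TauLocus

open Groth.Agent

variable {X S : Scheme.{u}}

/-- The twist `P^m ⊗ Q^n`. -/
abbrev bitwist (P Q : X.Modules) (m n : ℕ) : X.Modules :=
  CohB1.tensorMod (CohB1.tensorPow P m) (CohB1.tensorPow Q n)

theorem isInvertible_bitwist {P Q : X.Modules} (hP : PicF.IsInvertible P) (hQ : PicF.IsInvertible Q) (m n : ℕ) :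
    PicF.IsInvertible (bitwist P Q m n) :=
  InvX.isInvertible_tensorMod (InvX.isInvertible_tensorPow hP m) (InvX.isInvertible_tensorPow hQ n)

theorem bitwist_pullback {Y : Scheme.{u}} (g : Y ⟶ X) (P Q : X.Modules) (m n : ℕ) :
    Nonempty ((Scheme.Modules.pullback g).obj (bitwist P Q m n) ≅
      bitwist ((Scheme.Modules.pullback g).obj P) ((Scheme.Modules.pullback g).obj Q) m n) :=
  cl_eq_iff.1 (by
    show PicF.pullCl g (PicF.cl (bitwist P Q m n)) = _
    rw [cl_tensor, cl_tensorPow, cl_tensorPow, pullCl_mul, pullCl_pow, pullCl_pow, cl_tensor, cl_tensorPow,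
      cl_tensorPow]
    rfl)

theorem pow_pullback {Y : Scheme.{u}} (g : Y ⟶ X) (Q : X.Modules) (n : ℕ) :
    Nonempty ((Scheme.Modules.pullback g).obj (CohB1.tensorPow Q n) ≅
      CohB1.tensorPow ((Scheme.Modules.pullback g).obj Q) n) :=
  cl_eq_iff.1 (by
    show PicF.pullCl g (PicF.cl (CohB1.tensorPow Q n)) = _
    rw [cl_tensorPow, pullCl_pow, cl_tensorPow]
    rfl)

/-- Euler characteristics on a geometric fibre. -/
theorem euler_geometric_fibre (f : X ⟶ S) [IsProper f] {Ω : Type u} [Field Ω]
    (σ : Spec (CommRingCat.of Ω) ⟶ S) {s : S} (hσ : Set.range σ.base = {s}) {G : X.Modules} (hG : Coh.IsQCoh G) :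
    @Curv2.euler Ω _ (pullback f σ) ⟨pullback.snd f σ⟩ ((Scheme.Modules.pullback (pullback.fst f σ)).obj G) =
      HilbFib.χ f G s := by
  let t : Spec (CommRingCat.of Ω) := IsLocalRing.closedPoint Ω
  have hts : σ t = s := Set.mem_singleton_iff.1 (hσ ▸ Set.mem_range_self t)
  rw [← hts, ← HilbFib.χ_baseChange (IsPullback.of_hasPullback f σ) hG t]
  let q := pullback.snd f σ
  haveI : IsProper q := MorphismProperty.pullback_snd (P := @IsProper) _ _ ‹_›
  letI : (pullback f σ).Over (Spec (CommRingCat.of Ω)) := ⟨q⟩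
  haveI : IsProper (pullback f σ ↘ Spec (CommRingCat.of Ω)) := ‹IsProper q›
  haveI := CurveCohLib.isNoetherian_of_proper (k := Ω) (X := pullback f σ)
  let K := (Spec (CommRingCat.of Ω)).residueField t
  obtain ⟨φ, hφ⟩ := Spec.map_surjective ((Spec (CommRingCat.of Ω)).fromSpecResidueField t)
  letI : Algebra Ω K := φ.hom.toAlgebra
  letI : (q.fiber t).Over (Spec (CommRingCat.of K)) := ⟨q.fiberToSpecResidueField t⟩
  haveI : IsProper (q.fiber t ↘ Spec (CommRingCat.of K)) := HilbFib.isProper_fibre q t
  have hpb : IsPullback (q.fiberι t) (q.fiber t ↘ Spec (CommRingCat.of K)) (pullback f σ ↘ Spec (CommRingCat.of Ω))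
      (Spec.map (CommRingCat.ofHom (algebraMap Ω K))) := by
    show IsPullback (q.fiberι t) (q.fiberToSpecResidueField t) q (Spec.map φ)
    rw [hφ]
    exact IsPullback.of_hasPullback q _
  exact (CurveBC.euler_eq Ω K (q.fiberι t) hpb _ (QCoh.isQCoh_pullback _ hG)).symm

/-- The conditions on Euler characteristics. -/
def EulerCond (f : X ⟶ S) (A A' L L' : X.Modules) (s : S) : Prop :=
  ∀ m n : ℕ,
    HilbFib.χ f (bitwist L A m n) s = HilbFib.χ f (CohB1.tensorPow A n) s ∧
    HilbFib.χ f (bitwist L A' m n) s = HilbFib.χ f (CohB1.tensorPow A' n) s ∧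
    HilbFib.χ f (bitwist L' A m n) s = HilbFib.χ f (CohB1.tensorPow A n) s ∧
    HilbFib.χ f (bitwist L' A' m n) s = HilbFib.χ f (CohB1.tensorPow A' n) s

theorem isClosed_eulerCond [IsNoetherian S] (f : X ⟶ S) [IsProper f] [Flat f] {A A' L L' : X.Modules}
    (hA : PicF.IsInvertible A) (hA' : PicF.IsInvertible A') (hL : PicF.IsInvertible L) (hL' : PicF.IsInvertible L') :
    IsClosed {s : S | EulerCond f A A' L L' s} := by
  have key : ∀ G : X.Modules, PicF.IsInvertible G → IsLocallyConstant fun s => HilbFib.χ f G s := by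
    intro G hG
    have h := HilbFib.isLocallyConstant_χtw f (SeesawGen.isFP_of_isInvertible hG)
      (H23.Seesaw.isFlatOver_of_isInvertible f hG) (InvX.isInvertible_structureModule (X := X))
    haveI : IsLocallyNoetherian X := LocallyOfFiniteType.isLocallyNoetherian f
    have hG0 : ∀ s, HilbFib.χ f (HilbFib.tw G (Coh.structureModule X) 0) s = HilbFib.χ f G s := fun s => by
      obtain ⟨e⟩ : Nonempty (HilbFib.tw G (Coh.structureModule X) 0 ≅ G) :=
        cl_eq_iff.1 (by rw [cl_tensor, cl_tensorPow, pow_zero, mul_one])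
      exact HilbFib.χ_congr f e s
    have := h.comp fun F => F 0
    convert this using 1
    funext s
    exact (hG0 s).symm
  have hcl : ∀ G G' : X.Modules, PicF.IsInvertible G → PicF.IsInvertible G' →
      IsClosed {s : S | HilbFib.χ f G s = HilbFib.χ f G' s} := fun G G' hG hG' =>
    isClosed_eq (key G hG).continuous (key G' hG').continuous
  simp only [EulerCond, Set.ofPred_forall, Set.ofPred_and]
  refine isClosed_iInter fun m => isClosed_iInter fun n => ?_
  have p := fun {P : X.Modules} (hP : PicF.IsInvertible P) => InvX.isInvertible_tensorPow hP n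
  exact (hcl _ _ (isInvertible_bitwist hL hA m n) (p hA)).inter ((hcl _ _ (isInvertible_bitwist hL hA' m n) (p hA')).inter
    ((hcl _ _ (isInvertible_bitwist hL' hA m n) (p hA)).inter (hcl _ _ (isInvertible_bitwist hL' hA' m n) (p hA'))))

end Groth.Agent.TauLocus
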